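import Mathlib
import Cfsg.Agent.H431.CS.Defs

/-!
# S3677: from the list of centralizers to `Lat`, orthogonal groups of odd dimension (helper524)
-/

set_option autoImplicit false

namespace Cfsg.Agent.H524.CS

open Cfsg.Agent.H370.AAM Cfsg.Agent.H431.CS

theorem lat_of {S : Type*} [Group S] [Finite S] {p f n r M : ℕ} (hp : p.Prime) (hp2 : p ≠ 2) (hf : 1 ≤ f) (hn : 2 ≤ n)
    (hr : r.Prime) (hvp : (Nat.card S).factorization p = f * n ^ 2) (rS : r ∣ Nat.card S)
    (full : r ^ (Nat.card S).factorization r ∣ M) (pm : ¬ p ∣ M)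
    (g : ℕ → ℕ → ℕ) (hg0 : ∀ k m, k * m = n → g k m ≠ 0)
    (hg : ∀ k m, k * m = n → (g k m).factorization p = f * (k * (m * (m - 1) / 2)))
    (hM : ∀ y : S, orderOf y = r → Nat.card (Subgroup.centralizer ({y} : Set S)) = M)
    (hgM : g n 1 = 2 * M)
    (hcl : ∀ x y : S, x ≠ 1 → Commute y x → orderOf y = r →
      (∃ A, ¬ p ∣ A ∧ Nat.card (Subgroup.centralizer ({x} : Set S)) = (p ^ f) ^ (n * (n - 1)) * A) ∨
        ∃ k m, k * m = n ∧ 2 * Nat.card (Subgroup.centralizer ({x} : Set S)) = g k m) :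
    Lat S p r M := by
  have hfr : Fact r.Prime := ⟨hr⟩
  have hfp : Fact p.Prime := ⟨hp⟩
  -- elements of order `r` in the centralizer
  have hel : ∀ x : S, r ∣ Nat.card (Subgroup.centralizer ({x} : Set S)) → ∃ y : S, Commute y x ∧ orderOf y = r := by
    intro x hx
    obtain ⟨v, hv⟩ := exists_prime_orderOf_dvd_card' r hx
    refine ⟨v, mem_cent.1 v.2, ?_⟩
    rw [← hv]; exact Subgroup.orderOf_coe v
  -- the classification in terms of the `p`-part
  have hne1 : ∀ {c : ℕ} {x : S}, Nat.card (Subgroup.centralizer ({x} : Set S)) = c → c ≠ Nat.card S → x ≠ 1 := by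
    rintro c x rfl hc rfl
    apply hc
    have : Subgroup.centralizer ({1} : Set S) = ⊤ := by
      rw [eq_top_iff]
      intro y _
      exact mem_cent.2 (Commute.one_right y)
    rw [this, Subgroup.card_top]
  have hpos : ∀ x : S, Nat.card (Subgroup.centralizer ({x} : Set S)) ≠ 0 := fun x => Nat.card_pos.ne'
  have hn0 : n ≠ 0 := by omega
  have hcl' : ∀ c ∈ Co S, c ≠ Nat.card S → r ∣ c →
      (c.factorization p = f * (n * (n - 1))) ∨
        ∃ k m, k * m = n ∧ 2 * c = g k m ∧ c.factorization p = f * (k * (m * (m - 1) / 2)) := by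
    rintro c ⟨x, rfl⟩ hc hrc
    dsimp only at hc hrc ⊢
    obtain ⟨y, hy, hyo⟩ := hel x hrc
    rcases hcl x y (hne1 rfl hc) hy hyo with ⟨A, hA, hA2⟩ | ⟨k, m, hkm, h⟩
    · left
      have hA0 : A ≠ 0 := by rintro rfl; exact hA (dvd_zero p)
      have hpf0 : (p ^ f) ^ (n * (n - 1)) ≠ 0 := pow_ne_zero _ (pow_ne_zero _ hp.pos.ne')
      rw [hA2, Nat.factorization_mul hpf0 hA0, Finsupp.add_apply, Nat.factorization_eq_zero_of_not_dvd hA, ← pow_mul,
        Nat.Prime.factorization_pow hp, Finsupp.single_eq_same, add_zero]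
    · right
      refine ⟨k, m, hkm, h, ?_⟩
      rw [← hg k m hkm, ← h, Nat.factorization_mul two_ne_zero (hpos x), Finsupp.add_apply,
        Nat.factorization_eq_zero_of_not_dvd (n := 2), zero_add]
      intro h2
      exact hp2 ((Nat.prime_dvd_prime_iff_eq hp Nat.prime_two).1 h2)
  have hkm : ∀ k m : ℕ, k * m = n → 2 * (k * (m * (m - 1) / 2)) = n * (m - 1) := by
    intro k m h
    have h1 : 2 ∣ m * (m - 1) := (Nat.even_mul_pred_self m).two_dvd
    obtain ⟨a, ha⟩ := h1
    rw [ha, Nat.mul_div_cancel_left _ two_pos, ← h, mul_assoc, ← mul_left_comm, ← ha]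
  have hml : ∀ k m : ℕ, k * m = n → 1 ≤ m ∧ m ≤ n := by
    intro k m h
    have hk : k ≠ 0 := by rintro rfl; rw [zero_mul] at h; exact hn0 h.symm
    have hm : m ≠ 0 := by rintro rfl; rw [mul_zero] at h; exact hn0 h.symm
    refine ⟨Nat.one_le_iff_ne_zero.2 hm, ?_⟩
    rw [← h]
    exact Nat.le_mul_of_pos_left m (Nat.pos_of_ne_zero hk)
  have hle : ∀ k m : ℕ, k * m = n → k * (m * (m - 1) / 2) ≤ n * (n - 1) := by
    intro k m h
    have h1 := hkm k m h
    have h3 : n * (m - 1) ≤ n * (n - 1) := Nat.mul_le_mul_left _ (by have := hml k m h; omega)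
    omega
  have hlt : ∀ k m : ℕ, k * m = n → k * (m * (m - 1) / 2) < n * (n - 1) := by
    intro k m h
    have h1 := hkm k m h
    have h3 : n * (m - 1) ≤ n * (n - 1) := Nat.mul_le_mul_left _ (by have := hml k m h; omega)
    have h4 : 0 < n * (n - 1) := Nat.mul_pos (by omega) (by omega)
    omega
  have hnn : n * (n - 1) < n ^ 2 := by
    rw [pow_two]
    exact Nat.mul_lt_mul_of_pos_left (by omega) (by omega)
  have hvc : ∀ c ∈ Co S, c ≠ Nat.card S → r ∣ c → c.factorization p ≤ f * (n * (n - 1)) := by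
    intro c hc hcS hrc
    rcases hcl' c hc hcS hrc with h | ⟨k, m, hk, -, h⟩
    · exact h.le
    · rw [h]
      exact Nat.mul_le_mul_left _ (hle k m hk)
  have hc0 : ∀ c ∈ Co S, c ≠ 0 := by
    rintro _ ⟨x, rfl⟩
    exact hpos x
  refine ⟨rS, ?_, ?_, full, pm, ?_, ?_, ?_⟩
  · -- a `p`-element
    have hpS : p ∣ Nat.card S := by
      by_contra h
      rw [Nat.factorization_eq_zero_of_not_dvd h] at hvp
      have : 0 < f * n ^ 2 := Nat.mul_pos (by omega) (pow_pos (by omega) 2)
      omega
    obtain ⟨u, hu⟩ := exists_prime_orderOf_dvd_card' p hpS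
    refine ⟨_, mem_co u, fun h => ?_⟩
    obtain ⟨y, hy, hyo⟩ := hel u h
    apply pm
    rw [← hM y hyo]
    exact dvd_cent hy.symm (by rw [hu])
  · obtain ⟨y, hy⟩ := exists_prime_orderOf_dvd_card' r rS
    exact ⟨y, hM y hy⟩
  · intro c hc hcS hrc hpc
    have h0 : c.factorization p = 0 := Nat.factorization_eq_zero_of_not_dvd hpc
    rcases hcl' c hc hcS hrc with h | ⟨k, m, hk, h, h'⟩
    · rw [h0] at h
      have : 0 < f * (n * (n - 1)) := Nat.mul_pos (by omega) (Nat.mul_pos (by omega) (by omega))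
      omega
    · rw [h0] at h'
      have h1 := hkm k m hk
      have h3 : k * (m * (m - 1) / 2) = 0 := by
        rcases Nat.mul_eq_zero.1 h'.symm with h4 | h4
        · omega
        · exact h4
      rw [h3, mul_zero] at h1
      have h4 : m = 1 := by
        rcases Nat.mul_eq_zero.1 h1.symm with h5 | h5
        · omega
        · have := hml k m hk; omega
      subst h4
      rw [mul_one] at hk
      subst hk
      rw [hgM] at h
      omega
  · intro c hc hcS hrc h
    have h1 : f * n ^ 2 ≤ c.factorization p := by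
      rw [← hvp]
      exact (hp.pow_dvd_iff_le_factorization (hc0 c hc)).1 h
    have h3 := hvc c hc hcS hrc
    have h4 : f * (n * (n - 1)) < f * n ^ 2 := Nat.mul_lt_mul_of_pos_left hnn (by omega)
    omega
  · intro c hc hcS hrc _
    rcases hcl' c hc hcS hrc with h | ⟨k, m, hk, h, h'⟩
    · left
      intro c' hc' hcS' hrc'
      rw [h]
      exact hvc c' hc' hcS' hrc'
    · right
      intro c' hc' hrc' _ hv
      have hcS' : c' ≠ Nat.card S := by
        rintro rfl
        rw [hvp] at hv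
        have h3 := hvc c hc hcS hrc
        have h4 : f * (n * (n - 1)) < f * n ^ 2 := Nat.mul_lt_mul_of_pos_left hnn (by omega)
        omega
      rcases hcl' c' hc' hcS' hrc' with h1 | ⟨k', m', hk', h1, h1'⟩
      · exfalso
        have h3 := hlt k m hk
        rw [hv, h'] at h1
        have h4 := Nat.eq_of_mul_eq_mul_left (by omega : 0 < f) h1
        omega
      · rw [hv, h'] at h1'
        have h4 := Nat.eq_of_mul_eq_mul_left (by omega : 0 < f) h1'
        have h5 := hkm k m hk
        have h6 := hkm k' m' hk'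
        rw [h4, h6] at h5
        have h7 := Nat.eq_of_mul_eq_mul_left (by omega : 0 < n) h5
        have h8 := hml k m hk
        have h9 := hml k' m' hk'
        have h10 : m' = m := by omega
        subst h10
        have h11 : k = k' := Nat.eq_of_mul_eq_mul_right (by omega : 0 < m') (hk.trans hk'.symm)
        subst h11
        omega

end Cfsg.Agent.H524.CS
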