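import Mathlib
import Cfsg.Agent.H951.Lin
import Cfsg.Agent.H204.Glue

/-!
# S3677, orthogonal groups of odd dimension: linear algebra (helper524)

* `exists_poly`, `comm_of_irr` : the operators commuting with `s` on a minimal `s`-invariant subspace are
  polynomials in `s`, hence commute with each other;
* `irreducible_minpoly` : they have irreducible minimal polynomials on it;
* `card_split` : isometries commuting with `x`, on an orthogonal sum;
* `card_line` : on a line there are two isometries;
* `exists_fixed` : an isometry of determinant one of a space of odd dimension fixes a non-zero vector.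
-/

set_option autoImplicit false

namespace Cfsg.Agent.H524.CS

open Module Polynomial Cfsg.Agent.H951 Cfsg.Agent.H204

section Poly

variable {F V : Type*} [Field F] [AddCommGroup V] [Module F V]

theorem comm_aeval {s a : End F V} (ha : ∀ v, a (s v) = s (a v)) (p : F[X]) (v : V) :
    a (aeval s p v) = aeval s p (a v) := by
  have h1 : Commute a s := LinearMap.ext ha
  have h2 : Commute a (aeval s p) := by
    induction p using Polynomial.induction_on' with
    | add p q hp hq => rw [map_add]; exact hp.add_right hq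
    | monomial n c =>
      rw [aeval_monomial]
      have h3 : Commute a (algebraMap F (End F V) c) := (Algebra.commutes c a).symm
      exact h3.mul_right (h1.pow_right n)
  exact LinearMap.congr_fun h2.eq v

/-- an operator commuting with `s` is a polynomial in `s` on a minimal invariant subspace -/
theorem exists_poly {s : End F V} {W : Submodule F V} (hW : Irr s W) {a : End F V}
    (ha : ∀ v, a (s v) = s (a v)) (haW : Inv a W) : ∃ p : F[X], ∀ w ∈ W, a w = aeval s p w := by
  obtain ⟨w0, hw0, h0⟩ := (Submodule.ne_bot_iff _).1 hW.1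
  let f : F[X] →ₗ[F] V := (LinearMap.applyₗ w0).comp (aeval s : F[X] →ₐ[F] End F V).toLinearMap
  have hf : ∀ p, f p = aeval s p w0 := fun p => rfl
  have hM : LinearMap.range f = W := by
    refine (hW.2.2 _ ?_ ?_).resolve_left ?_
    · rintro _ ⟨p, rfl⟩
      exact hW.2.1.aeval p w0 hw0
    · rintro _ ⟨p, rfl⟩
      refine ⟨X * p, ?_⟩
      rw [hf, hf, map_mul, aeval_X]
      rfl
    · intro h
      apply h0
      rw [← Submodule.mem_bot F, ← h]
      exact ⟨1, by rw [hf, map_one]; rfl⟩
  obtain ⟨p, hp⟩ : a w0 ∈ LinearMap.range f := by rw [hM]; exact haW _ hw0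
  rw [hf] at hp
  refine ⟨p, fun w hw => ?_⟩
  rw [← hM] at hw
  obtain ⟨g, rfl⟩ := hw
  rw [hf, comm_aeval ha, ← hp, ← Module.End.mul_apply, ← Module.End.mul_apply, ← map_mul, ← map_mul, mul_comm]

/-- operators commuting with `s` commute on a minimal invariant subspace -/
theorem comm_of_irr {s : End F V} {W : Submodule F V} (hW : Irr s W) {a b : End F V}
    (ha : ∀ v, a (s v) = s (a v)) (hb : ∀ v, b (s v) = s (b v)) (haW : Inv a W) (hbW : Inv b W) {w : V}
    (hw : w ∈ W) : a (b w) = b (a w) := by
  obtain ⟨p, hp⟩ := exists_poly hW ha haW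
  obtain ⟨g, hg⟩ := exists_poly hW hb hbW
  rw [hg w hw, hp w hw, hp _ (hW.2.1.aeval g w hw), hg _ (hW.2.1.aeval p w hw), ← Module.End.mul_apply,
    ← Module.End.mul_apply, ← map_mul, ← map_mul, mul_comm]

theorem aeval_res {a : End F V} {W : Submodule F V} (haW : Inv a W) (p : F[X]) (w : W) :
    ((aeval (res a haW) p w : W) : V) = aeval a p w := by
  induction p using Polynomial.induction_on' with
  | add p q hp hq => rw [map_add, map_add, LinearMap.add_apply, LinearMap.add_apply, Submodule.coe_add, hp, hq]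
  | monomial n c =>
    rw [aeval_monomial, aeval_monomial, Module.End.mul_apply, Module.End.mul_apply, Module.algebraMap_end_apply,
      Module.algebraMap_end_apply, Submodule.coe_smul]
    congr 1
    induction n with
    | zero => rfl
    | succ n ih => rw [pow_succ', pow_succ', Module.End.mul_apply, Module.End.mul_apply, coe_res, ih]

/-- an operator commuting with `s` has an irreducible minimal polynomial on a minimal invariant subspace -/
theorem irreducible_minpoly [FiniteDimensional F V] {s : End F V} {W : Submodule F V} (hW : Irr s W) {a : End F V}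
    (ha : ∀ v, a (s v) = s (a v)) (haW : Inv a W) : Irreducible (minpoly F (res a haW)) := by
  have : Nontrivial W := (Submodule.nontrivial_iff_ne_bot).2 hW.1
  have hint : IsIntegral F (res a haW) := Algebra.IsIntegral.isIntegral _
  have h0 := minpoly.ne_zero hint
  refine ⟨minpoly.not_isUnit F _, fun {f g} hfg => ?_⟩
  have hf0 : f ≠ 0 := by rintro rfl; rw [zero_mul] at hfg; exact h0 hfg
  have hg0 : g ≠ 0 := by rintro rfl; rw [mul_zero] at hfg; exact h0 hfg
  have hinv : Inv s (W ⊓ LinearMap.ker (aeval a f)) := by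
    refine hW.2.1.inf fun v hv => ?_
    rw [LinearMap.mem_ker] at hv ⊢
    rw [← comm_aeval (s := a) (a := s) (fun v => (ha v).symm), hv, map_zero]
  rcases hW.2.2 _ inf_le_left hinv with h | h
  · left
    have h1 : aeval (res a haW) g = 0 := by
      refine LinearMap.ext fun w => ?_
      apply Subtype.ext
      have h2 : (aeval a g (w : V)) ∈ W ⊓ LinearMap.ker (aeval a f) := by
        refine ⟨haW.aeval g _ w.2, LinearMap.mem_ker.2 ?_⟩
        rw [ ← Module.End.mul_apply, ← map_mul, ← hfg, ← aeval_res haW, minpoly.aeval]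
        rfl
      rw [h, Submodule.mem_bot] at h2
      rw [aeval_res, h2]
      rfl
    have h2 := minpoly.dvd F _ h1
    rw [hfg] at h2
    obtain ⟨c, hc⟩ := h2
    exact IsUnit.of_mul_eq_one c (mul_left_cancel₀ hg0 (by rw [mul_one]; calc g * (f * c) = f * g * c := by ring
      _ = g := hc.symm))
  · right
    have h1 : aeval (res a haW) f = 0 := by
      refine LinearMap.ext fun w => ?_
      apply Subtype.ext
      have h2 : (w : V) ∈ W ⊓ LinearMap.ker (aeval a f) := by rw [h]; exact w.2
      rw [aeval_res, LinearMap.mem_ker.1 h2.2]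
      rfl
    have h2 := minpoly.dvd F _ h1
    rw [hfg] at h2
    obtain ⟨c, hc⟩ := h2
    exact IsUnit.of_mul_eq_one c (mul_left_cancel₀ hf0 (by rw [mul_one]; calc f * (g * c) = f * g * c := by ring
      _ = f := hc.symm))

end Poly

section Split

variable {F V : Type*} [Field F] [AddCommGroup V] [Module F V] [FiniteDimensional F V] {B : LinearMap.BilinForm F V}

/-- the isometries commuting with `x` -/
abbrev CI (B : LinearMap.BilinForm F V) (x : End F V) : Type _ :=
  {g : V ≃ₗ[F] V // (∀ u v, B (g u) (g v) = B u v) ∧ ∀ v, g (x v) = x (g v)}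

/-- gluing automorphisms -/
noncomputable def glueE {X Y : Submodule F V} (h : IsCompl X Y) (a : X ≃ₗ[F] X) (b : Y ≃ₗ[F] Y) : V ≃ₗ[F] V :=
  ((Submodule.prodEquivOfIsCompl X Y h).symm.trans (a.prodCongr b)).trans (Submodule.prodEquivOfIsCompl X Y h)

omit [FiniteDimensional F V] in
theorem glueE_apply {X Y : Submodule F V} (h : IsCompl X Y) (a : X ≃ₗ[F] X) (b : Y ≃ₗ[F] Y) (v : V) :
    glueE h a b v = glue h a b v := rfl

/-- restriction of an automorphism -/
noncomputable def resE (g : V ≃ₗ[F] V) {X : Submodule F V} (h : Inv (g : End F V) X) : X ≃ₗ[F] X :=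
  LinearEquiv.ofInjectiveEndo (res (g : End F V) h) fun _ _ hxy =>
    Subtype.ext (g.injective (congrArg Subtype.val hxy))

theorem coe_resE (g : V ≃ₗ[F] V) {X : Submodule F V} (h : Inv (g : End F V) X) (x : X) :
    ((resE g h x : X) : V) = g x := rfl

/-- **splitting** -/
theorem card_split (hs : Sy B) {X : Submodule F V} (hX : IsCompl X (perp B X)) {x : End F V} (hxX : Inv x X)
    (hxY : Inv x (perp B X))
    (hpres : ∀ g : CI B x, Inv (g.1 : End F V) X ∧ Inv (g.1 : End F V) (perp B X)) :
    Nat.card (CI B x) = Nat.card (CI (B.restrict X) (res x hxX)) * Nat.card (CI (B.restrict (perp B X)) (res x hxY)) := by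
  rw [← Nat.card_prod]
  symm
  refine Nat.card_congr (Equiv.ofBijective
    (fun ab : CI (B.restrict X) (res x hxX) × CI (B.restrict (perp B X)) (res x hxY) =>
      (⟨glueE hX ab.1.1 ab.2.1, ?_, ?_⟩ : CI B x)) ⟨?_, ?_⟩)
  · intro u v
    have h1 : Smi (B.restrict X) 1 (ab.1.1 : X →ₗ[F] X) := fun u v => by rw [one_mul]; exact ab.1.2.1 u v
    have h2 : Smi (B.restrict (perp B X)) 1 (ab.2.1 : perp B X →ₗ[F] perp B X) := fun u v => by
      rw [one_mul]; exact ab.2.2.1 u v
    have h3 := smi_glue hs hX h1 h2 u v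
    rw [one_mul] at h3
    exact h3
  · intro v
    exact commute_glue hX hxX hxY (fun u => ab.1.2.2 u) (fun u => ab.2.2.2 u) v
  · rintro ⟨⟨a, ha⟩, ⟨b, hb⟩⟩ ⟨⟨a', ha'⟩, ⟨b', hb'⟩⟩ hab
    have h1 : glueE hX a b = glueE hX a' b' := congrArg Subtype.val hab
    have h2 : a = a' := by
      apply LinearEquiv.ext
      intro u
      apply Subtype.ext
      have h3 := congrArg (fun g : V ≃ₗ[F] V => g (u : V)) h1
      have h4 : glue hX (a : X →ₗ[F] X) (b : perp B X →ₗ[F] perp B X) (u : V) =
        glue hX (a' : X →ₗ[F] X) (b' : perp B X →ₗ[F] perp B X) (u : V) := h3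
      rw [glue_left, glue_left] at h4
      exact h4
    have h2' : b = b' := by
      apply LinearEquiv.ext
      intro u
      apply Subtype.ext
      have h3 := congrArg (fun g : V ≃ₗ[F] V => g (u : V)) h1
      have h4 : glue hX (a : X →ₗ[F] X) (b : perp B X →ₗ[F] perp B X) (u : V) =
        glue hX (a' : X →ₗ[F] X) (b' : perp B X →ₗ[F] perp B X) (u : V) := h3
      rw [glue_right, glue_right] at h4
      exact h4
    subst h2 h2'
    rfl
  · intro g
    obtain ⟨h1, h2⟩ := hpres g
    refine ⟨(⟨resE g.1 h1, fun u v => g.2.1 u v, fun v => Subtype.ext (g.2.2 v)⟩,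
      ⟨resE g.1 h2, fun u v => g.2.1 u v, fun v => Subtype.ext (g.2.2 v)⟩), ?_⟩
    apply Subtype.ext
    apply LinearEquiv.ext
    intro v
    obtain ⟨u, w, rfl⟩ := exists_add hX v
    show glue hX ((resE g.1 h1 : X ≃ₗ[F] X) : X →ₗ[F] X)
      ((resE g.1 h2 : perp B X ≃ₗ[F] perp B X) : perp B X →ₗ[F] perp B X) ((u : V) + w) = _
    rw [glue_add, map_add]
    rfl

end Split

section Line

variable {F V : Type*} [Field F] [AddCommGroup V] [Module F V]

/-- on a line there are two isometries -/
theorem card_line (h2 : (2 : F) ≠ 0) {B : LinearMap.BilinForm F V} (hn : Nd B) (h1 : finrank F V = 1) (x : End F V) :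
    Nat.card (CI B x) = 2 := by
  obtain ⟨v, hv0, hv⟩ := finrank_eq_one_iff'.1 h1
  have hBv : B v v ≠ 0 := by
    intro h
    apply hv0
    apply hn
    intro w
    obtain ⟨c, rfl⟩ := hv w
    rw [map_smul, h, smul_zero]
  have hsc : ∀ g : V ≃ₗ[F] V, ∃ c : F, ∀ w, g w = c • w := by
    intro g
    obtain ⟨c, hc⟩ := hv (g v)
    refine ⟨c, fun w => ?_⟩
    obtain ⟨d, rfl⟩ := hv w
    rw [map_smul, ← hc, smul_smul, smul_smul, mul_comm]
  have hne : (LinearEquiv.refl F V) ≠ LinearEquiv.neg F := by
    intro h
    have h3 : v = -v := congrArg (fun g : V ≃ₗ[F] V => g v) h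
    have h4 : (2 : F) • v = 0 := by
      rw [two_smul]
      nth_rewrite 2 [h3]
      exact add_neg_cancel v
    exact hv0 ((smul_eq_zero.1 h4).resolve_left h2)
  have hset : {g : V ≃ₗ[F] V | (∀ u w, B (g u) (g w) = B u w) ∧ ∀ w, g (x w) = x (g w)} =
      {LinearEquiv.refl F V, LinearEquiv.neg F} := by
    ext g
    rw [Set.mem_insert_iff, Set.mem_singleton_iff]
    constructor
    · rintro ⟨hg, -⟩
      obtain ⟨c, hc⟩ := hsc g
      have h3 := hg v v
      rw [hc, map_smul, map_smul, LinearMap.smul_apply, smul_eq_mul, smul_eq_mul] at h3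
      have h4 : c * c = 1 := by
        apply mul_right_cancel₀ hBv
        linear_combination h3
      rcases mul_self_eq_one_iff.1 h4 with rfl | rfl
      · left
        exact LinearEquiv.ext fun w => by rw [hc, one_smul]; rfl
      · right
        exact LinearEquiv.ext fun w => by rw [hc, neg_one_smul]; rfl
    · rintro (rfl | rfl)
      · exact ⟨fun _ _ => rfl, fun _ => rfl⟩
      · refine ⟨fun u w => ?_, fun w => ?_⟩
        · show B (-u) (-w) = _
          rw [map_neg, map_neg, LinearMap.neg_apply, neg_neg]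
        · show -(x w) = x (-w)
          rw [map_neg]
  have h3 : Nat.card (CI B x) = Set.ncard {g : V ≃ₗ[F] V | (∀ u w, B (g u) (g w) = B u w) ∧ ∀ w, g (x w) = x (g w)} := rfl
  rw [h3, hset, Set.ncard_pair hne]

end Line

section Fixed

variable {F D : Type*} [Field F] [AddCommGroup D] [Module F D]

/-- an isometry of determinant one of a space of odd dimension fixes a non-zero vector -/
theorem exists_fixed [FiniteDimensional F D] (hd : Odd (finrank F D)) (h2 : (2 : F) ≠ 0)
    {B : LinearMap.BilinForm F D} (hn : Nd B) {f : End F D} (hf : ∀ x y, B (f x) (f y) = B x y)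
    (hdet : LinearMap.det f = 1) : ∃ x, x ≠ 0 ∧ f x = x := by
  have hB : ∀ x, B x = 0 → x = 0 := fun x hx => hn x fun v => by rw [hx]; rfl
  have hinj : Function.Injective B := by
    rw [← LinearMap.ker_eq_bot, LinearMap.ker_eq_bot']
    exact hB
  let e : D ≃ₗ[F] Dual F D := LinearEquiv.ofInjectiveOfFinrankEq B hinj (Subspace.dual_finrank_eq).symm
  have he : ∀ x, e x = B x := fun x => rfl
  have hdual : finrank F (Dual F D) = finrank F D := Subspace.dual_finrank_eq
  have hc : ∀ g : D →ₗ[F] D, LinearMap.det (e.toLinearMap ∘ₗ g ∘ₗ e.symm.toLinearMap) = LinearMap.det g := fun g =>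
    LinearMap.det_conj g e
  have hdd : ∀ g : D →ₗ[F] D, LinearMap.det g.dualMap = LinearMap.det g := fun g => LinearMap.det_dualMap g
  have k4 : f.dualMap ∘ₗ (e.toLinearMap ∘ₗ (f - 1) ∘ₗ e.symm.toLinearMap) = (-1 : F) • (f - 1).dualMap := by
    refine LinearMap.ext fun y => ?_
    obtain ⟨x, rfl⟩ := e.surjective y
    refine LinearMap.ext fun z => ?_
    simp only [LinearMap.comp_apply, LinearEquiv.coe_coe, LinearMap.dualMap_apply, LinearEquiv.symm_apply_apply,
      LinearMap.smul_apply, LinearMap.sub_apply, Module.End.one_apply]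
    rw [he, he, map_sub, LinearMap.sub_apply, hf, map_sub, smul_eq_mul]
    ring
  have k5 := congrArg LinearMap.det k4
  rw [LinearMap.det_comp, hdd, hc, hdet, one_mul, LinearMap.det_smul, hdual, hdd, hd.neg_one_pow] at k5
  have k6 : LinearMap.det (f - 1) = 0 := by
    have : (2 : F) * LinearMap.det (f - 1) = 0 := by linear_combination k5
    exact (mul_eq_zero.1 this).resolve_left h2
  have k7 : LinearMap.ker (f - 1) ≠ ⊥ := by
    intro h
    exact (LinearMap.isUnit_det _ ((LinearMap.isUnit_iff_ker_eq_bot _).2 h)).ne_zero k6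
  obtain ⟨x, hx, hx0⟩ := (Submodule.ne_bot_iff _).1 k7
  exact ⟨x, hx0, by rwa [LinearMap.mem_ker, LinearMap.sub_apply, sub_eq_zero] at hx⟩

end Fixed

end Cfsg.Agent.H524.CS
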