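import Mathlib
import Cfsg.Agent.H431.CS.Defs
import Cfsg.Agent.H524.CS.Lin
import Cfsg.Agent.H743.RegOmTool
import Cfsg.Agent.LieClassical.OrthCenter
import Cfsg.Agent.ClassicalGeometry.OmegaIndex
import Cfsg.Agent.H204.TorSign

/-!
# S3677, orthogonal groups of odd dimension: from `POmega` to isometries (helper524)

`Q` a nondegenerate quadratic form on `ι → F`, `F` finite of odd characteristic, `card ι` odd.
* `center_eq_bot`, `co_pomega` : the centre of `Omega F Q` is trivial;
* `card_iso` : the centralizer of `x` in the isometry group is `CI (polarBilin Q) x`;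
* `card_omega` : it is four times the centralizer in `Omega`, as soon as some isometry of determinant one and
  spinor sign `-1` commutes with `x`;
* `exists_t` : this is the case if `x` commutes with `s ≠ 1`, `s ^ r = 1`, and everything commuting with `s` commutes
  with `x`.
-/

set_option autoImplicit false

namespace Cfsg.Agent.H524.CS

open Module QuadraticMap Cfsg.Agent.H951 Cfsg.Agent.H204 Cfsg.Agent.LieClassical.OrthFinite
  Cfsg.Agent.ClassicalGeometry.SpinorSign Cfsg.Agent.ClassicalGeometry.OmegaIndex Cfsg.Agent.H370.AAM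

variable {F : Type*} [Field F] [Finite F] {ι : Type} [Fintype ι] [DecidableEq ι] {Q : QuadraticForm F (ι → F)}

/-- the isometry defined by a matrix -/
noncomputable abbrev ie (Q : QuadraticForm F (ι → F)) : Cfsg.isometryGroup F ⇑Q →* ((ι → F) ≃ₗ[F] (ι → F)) :=
  isometryHom Q

omit [Finite F] in
theorem ie_Q (g : Cfsg.isometryGroup F ⇑Q) (v : ι → F) : Q (ie Q g v) = Q v := mem_isometryGroup_iff.1 g.2 v

omit [Finite F] in
theorem ie_B (g : Cfsg.isometryGroup F ⇑Q) (u v : ι → F) : polarBilin Q (ie Q g u) (ie Q g v) = polarBilin Q u v := by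
  rw [polarBilin_apply_apply, polarBilin_apply_apply, polar, polar, ← map_add, ie_Q, ie_Q, ie_Q]

omit [Finite F] in
theorem det_ie (g : Cfsg.isometryGroup F ⇑Q) :
    LinearMap.det (ie Q g : End F (ι → F)) = ((g : Matrix.GeneralLinearGroup ι F) : Matrix ι ι F).det :=
  LinearMap.det_toLin' ((g : Matrix.GeneralLinearGroup ι F) : Matrix ι ι F)

omit [Finite F] [Fintype ι] [DecidableEq ι] in
theorem sy_polar (Q : QuadraticForm F (ι → F)) : Sy (polarBilin Q) := fun _ _ => polar_comm _ _ _

omit [Finite F] [Fintype ι] [DecidableEq ι] in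
theorem pol_self (Q : QuadraticForm F (ι → F)) (v : ι → F) : polarBilin Q v v = 2 * Q v := by
  rw [polarBilin_apply_apply, polar_self, two_nsmul, two_mul]

omit [Finite F] in
/-- every isometry of the polar form is in the isometry group -/
theorem exists_ie (h2 : (2 : F) ≠ 0) (g : (ι → F) ≃ₗ[F] (ι → F))
    (hg : ∀ u v, polarBilin Q (g u) (g v) = polarBilin Q u v) : ∃ k : Cfsg.isometryGroup F ⇑Q, ie Q k = g := by
  have h1 : g ∈ (isometryHom Q).range := by
    rw [isometryHom_range]
    intro v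
    have h3 := hg v v
    rw [pol_self, pol_self] at h3
    exact mul_left_cancel₀ h2 h3
  exact h1

omit [Finite F] in
/-- the centralizer in the isometry group -/
theorem card_iso (h2 : (2 : F) ≠ 0) (x : Cfsg.isometryGroup F ⇑Q) :
    Nat.card (Subgroup.centralizer ({x} : Set (Cfsg.isometryGroup F ⇑Q))) =
      Nat.card (CI (polarBilin Q) (ie Q x : End F (ι → F))) := by
  refine Nat.card_congr (Equiv.ofBijective (fun g => ⟨ie Q g.1, ie_B g.1, fun v => ?_⟩) ⟨?_, ?_⟩)
  · have h1 : g.1 * x = x * g.1 := (mem_cent.1 g.2).symm.eq.symm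
    have h3 := congrArg (fun k => ie Q k v) h1
    simp only [map_mul] at h3
    exact h3
  · intro g g' h
    exact Subtype.ext (isometryHom_injective Q (congrArg Subtype.val h))
  · rintro ⟨g, hg, hgx⟩
    obtain ⟨k, hk⟩ := exists_ie h2 g hg
    have h1 : k * x = x * k := by
      apply isometryHom_injective Q
      rw [map_mul, map_mul]
      apply LinearEquiv.ext
      intro v
      show ie Q k (ie Q x v) = ie Q x (ie Q k v)
      rw [hk]
      exact hgx v
    exact ⟨⟨k, mem_cent.2 h1⟩, Subtype.ext hk⟩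

omit [Finite F] in
/-- `-1` -/
theorem exists_neg (Q : QuadraticForm F (ι → F)) : ∃ k : Cfsg.isometryGroup F ⇑Q,
    ((k : Matrix.GeneralLinearGroup ι F) : Matrix ι ι F) = -1 := by
  refine ⟨⟨-1, mem_isometryGroup_iff.2 fun v => ?_⟩, ?_⟩
  · rw [Units.val_neg, Units.val_one, Matrix.neg_mulVec, Matrix.one_mulVec, QuadraticMap.map_neg]
  · show ((-1 : Matrix.GeneralLinearGroup ι F) : Matrix ι ι F) = -1
    rw [Units.val_neg, Units.val_one]

section Center

theorem center_eq_bot (h2 : (2 : F) ≠ 0) (hQ : (polarBilin Q).Nondegenerate) (hodd : Odd (Fintype.card ι))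
    (h3 : 3 ≤ Fintype.card ι) : Subgroup.center (Cfsg.Omega F ⇑Q) = ⊥ := by
  rw [eq_bot_iff]
  intro z hz
  have hsing : ∃ u : ι → F, u ≠ 0 ∧ Q u = 0 := by
    obtain ⟨w, hw0, hw, -⟩ := exists_sing_perp (Q := Q) (n := 0) ![] (by
      rw [Module.finrank_fintype_fun_eq_card]; omega)
    exact ⟨w, hw0, hw⟩
  rw [Subgroup.mem_bot]
  rcases (Cfsg.Agent.LieClassical.OrthCenter.mem_center_omega_iff hQ h3 hsing z).1 hz with h | h
  · apply Subtype.ext
    apply Subtype.ext
    apply Units.ext
    exact h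
  · exfalso
    have h4 := ((mem_Omega_iff h2 Q hQ (by omega) one_ne_zero z.1).1 z.2).1
    rw [h, Matrix.det_neg, hodd.neg_one_pow, Matrix.det_one, mul_one] at h4
    apply h2
    linear_combination -h4

theorem co_pomega (h2 : (2 : F) ≠ 0) (hQ : (polarBilin Q).Nondegenerate) (hodd : Odd (Fintype.card ι))
    (h3 : 3 ≤ Fintype.card ι) : Co (Cfsg.POmega F ⇑Q) = Co (Cfsg.Omega F ⇑Q) :=
  Cfsg.Agent.H431.CS.co_congr
    ((QuotientGroup.quotientMulEquivOfEq (center_eq_bot h2 hQ hodd h3)).trans QuotientGroup.quotientBot)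

theorem card_pomega (h2 : (2 : F) ≠ 0) (hQ : (polarBilin Q).Nondegenerate) (hodd : Odd (Fintype.card ι))
    (h3 : 3 ≤ Fintype.card ι) : Nat.card (Cfsg.POmega F ⇑Q) = Nat.card (Cfsg.Omega F ⇑Q) :=
  Nat.card_congr
    ((QuotientGroup.quotientMulEquivOfEq (center_eq_bot h2 hQ hodd h3)).trans QuotientGroup.quotientBot).toEquiv

end Center

section Index

/-- the centralizer in `Omega` has index four in the centralizer in the isometry group -/
theorem card_omega (h2 : (2 : F) ≠ 0) (hQ : (polarBilin Q).Nondegenerate) (hodd : Odd (Fintype.card ι))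
    (h3 : 3 ≤ Fintype.card ι) (x : Cfsg.Omega F ⇑Q) {t : Cfsg.isometryGroup F ⇑Q}
    (htx : t * x.1 = x.1 * t) (ht1 : ((t : Matrix.GeneralLinearGroup ι F) : Matrix ι ι F).det = 1)
    (ht2 : spinorSign (⇑Q) 1 t = -1) :
    Nat.card (CI (polarBilin Q) (ie Q x.1 : End F (ι → F))) =
      4 * Nat.card (Subgroup.centralizer ({x} : Set (Cfsg.Omega F ⇑Q))) := by
  classical
  rw [← card_iso h2]
  have hn : 2 ≤ Fintype.card ι := by omega
  have hker : (detSpinor (⇑Q) (1 : F)).ker = Cfsg.Omega F (⇑Q) := by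
    ext g
    rw [mem_Omega_iff h2 Q hQ hn one_ne_zero, MonoidHom.mem_ker, detSpinor_eq_one_iff]
  have hr4 : Nat.card (detSpinor (⇑Q) (1 : F)).range = 4 := by
    rw [← Subgroup.index_ker, hker, index_Omega h2 hn Q hQ]
  set C := Subgroup.centralizer ({x.1} : Set (Cfsg.isometryGroup F ⇑Q)) with hC
  let φ : C →* Fˣ × ℤˣ := (detSpinor (⇑Q) (1 : F)).comp C.subtype
  have hφr : φ.range ≤ (detSpinor (⇑Q) (1 : F)).range := by
    rintro _ ⟨g, rfl⟩
    exact ⟨g.1, rfl⟩
  have hdvd : Nat.card φ.range ∣ 4 := by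
    rw [← hr4]
    exact Subgroup.card_dvd_of_le hφr
  -- three elements
  obtain ⟨m, hm⟩ := exists_neg Q
  have hmx : m ∈ C := by
    rw [hC, mem_cent]
    apply Subtype.ext
    apply Units.ext
    show ((m : Matrix.GeneralLinearGroup ι F) : Matrix ι ι F) * _ = _ * ((m : Matrix.GeneralLinearGroup ι F) : Matrix ι ι F)
    rw [hm, neg_one_mul, mul_neg_one]
  have htC : t ∈ C := by
    rw [hC, mem_cent]
    exact htx
  have hmd : ((m : Matrix.GeneralLinearGroup ι F) : Matrix ι ι F).det = -1 := by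
    rw [hm, Matrix.det_neg, hodd.neg_one_pow, Matrix.det_one, mul_one]
  have h1t : φ ⟨t, htC⟩ = (1, -1) := by
    refine Prod.ext (Units.ext ht1) ht2
  have h1m : (φ ⟨m, hmx⟩).1 = -1 := by
    refine Units.ext ?_
    rw [Units.val_neg, Units.val_one]
    exact hmd
  have hne := neg_one_ne_one_units h2
  have hge : 3 ≤ Nat.card φ.range := by
    have hsub : ({(1, 1), (1, -1), φ ⟨m, hmx⟩} : Set (Fˣ × ℤˣ)) ⊆ (φ.range : Set (Fˣ × ℤˣ)) := by
      rintro y (rfl | rfl | rfl)
      · exact φ.range.one_mem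
      · exact ⟨_, h1t⟩
      · exact ⟨_, rfl⟩
    have h5 := Set.ncard_le_ncard hsub (Set.toFinite _)
    have h6 : ({(1, 1), (1, -1), φ ⟨m, hmx⟩} : Set (Fˣ × ℤˣ)).ncard = 3 := by
      rw [Set.ncard_insert_of_notMem, Set.ncard_pair]
      · intro h
        apply hne
        rw [← h1m, ← h]
      · rintro (h | h)
        · have h7 : (1 : ℤˣ) = -1 := congrArg Prod.snd h
          exact absurd h7 (by decide)
        · apply hne
          rw [← h1m, ← (show (1, 1) = φ ⟨m, hmx⟩ from h)]
    rw [h6] at h5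
    exact h5
  have h4 : Nat.card φ.range = 4 := by
    have h5 : Nat.card φ.range ≤ 4 := Nat.le_of_dvd (by norm_num) hdvd
    have h6 : Nat.card φ.range ≠ 3 := by
      intro h
      rw [h] at hdvd
      exact absurd hdvd (by decide)
    omega
  have hcard : Nat.card C = Nat.card φ.ker * 4 := by
    rw [← h4, ← Subgroup.index_ker, Subgroup.card_mul_index]
  rw [hcard, mul_comm]
  congr 1
  refine Nat.card_congr (Equiv.ofBijective
    (fun g : φ.ker => (⟨⟨g.1.1, by rw [← hker]; exact g.2⟩, ?_⟩ :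
      Subgroup.centralizer ({x} : Set (Cfsg.Omega F ⇑Q)))) ⟨?_, ?_⟩)
  · rw [mem_cent]
    exact Subtype.ext (mem_cent.1 g.1.2)
  · intro g g' h
    apply Subtype.ext
    apply Subtype.ext
    exact congrArg (fun k => ((k : Subgroup.centralizer ({x} : Set (Cfsg.Omega F ⇑Q))) : Cfsg.Omega F ⇑Q).1) h
  · rintro ⟨⟨g, hg⟩, hgx⟩
    have hgC : g ∈ C := by
      rw [hC, mem_cent]
      exact congrArg Subtype.val (mem_cent.1 hgx)
    exact ⟨⟨⟨g, hgC⟩, by rw [← hker] at hg; exact hg⟩, rfl⟩

end Index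

section Odd

/-- an isometry of determinant one and spinor sign `-1` commuting with `x` -/
theorem exists_t (h2 : (2 : F) ≠ 0) (hQ : (polarBilin Q).Nondegenerate) {r : ℕ} (hro : Odd r) (hr : (r : F) ≠ 0)
    {x s : Cfsg.isometryGroup F ⇑Q} (hs : s ^ r = 1) (hs1 : s ≠ 1)
    (hcomm : ∀ t : End F (ι → F), (∀ u v, polarBilin Q (t u) (t v) = polarBilin Q u v) →
      (∀ v, t (ie Q s v) = ie Q s (t v)) → ∀ v, t (ie Q x v) = ie Q x (t v)) :
    ∃ t : Cfsg.isometryGroup F ⇑Q, t * x = x * t ∧ ((t : Matrix.GeneralLinearGroup ι F) : Matrix ι ι F).det = 1 ∧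
      spinorSign (⇑Q) 1 t = -1 := by
  classical
  have := Fintype.ofFinite F
  have ho : Odd (Fintype.card F) := by
    rw [← Nat.not_even_iff_odd]
    intro h
    apply h2
    have h1 : ((Fintype.card F : ℕ) : F) = 0 := FiniteField.cast_card_eq_zero F
    obtain ⟨p, hp⟩ := CharP.exists F
    obtain ⟨n, hpp, hn⟩ := FiniteField.card F p
    rw [hn] at h
    have h3 : p = 2 := ((Nat.prime_dvd_prime_iff_eq Nat.prime_two hpp).1
      (Nat.prime_two.dvd_of_dvd_pow h.two_dvd)).symm
    subst h3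
    exact_mod_cast CharP.cast_eq_zero F 2
  have hnd : Nd (polarBilin Q) := fun u hu => hQ.1 u hu
  have hsn : ∀ (n : ℕ) v, (((ie Q s : (ι → F) ≃ₗ[F] (ι → F)) : End F (ι → F)) ^ n) v = ie Q (s ^ n) v := by
    intro n
    induction n with
    | zero => intro v; rw [pow_zero, pow_zero, map_one]; rfl
    | succ n ih => intro v; rw [pow_succ, pow_succ, map_mul, Module.End.mul_apply, ih]; rfl
  have hB : Smi (polarBilin Q) 1 ((ie Q s : (ι → F) ≃ₗ[F] (ι → F)) : End F (ι → F)) := fun u v => by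
    rw [one_mul]; exact ie_B s u v
  obtain ⟨t, ht1, ht2, ht3, ht4⟩ := exists_odd_torus ho hnd (sy_polar Q) hB hro hr
    (LinearMap.ext fun v => by rw [hsn, hs, map_one]; rfl) (fun h => hs1 (isometryHom_injective Q (by
      rw [map_one]
      exact LinearEquiv.ext fun v => LinearMap.congr_fun h v)))
  have ht1' : ∀ u v, polarBilin Q (t u) (t v) = polarBilin Q u v := fun u v => by
    have := ht1 u v
    rwa [one_mul] at this
  have hinj : Function.Injective t := by
    rw [← LinearMap.ker_eq_bot, LinearMap.ker_eq_bot']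
    intro u hu
    apply hnd
    intro v
    rw [← ht1', hu, map_zero, LinearMap.zero_apply]
  obtain ⟨k, hk⟩ := exists_ie h2 (LinearEquiv.ofInjectiveEndo t hinj) ht1'
  have hkt : ∀ v, ie Q k v = t v := fun v => by rw [hk]; rfl
  refine ⟨k, ?_, ?_, ?_⟩
  · apply isometryHom_injective Q
    rw [map_mul, map_mul]
    apply LinearEquiv.ext
    intro v
    show ie Q k (ie Q x v) = ie Q x (ie Q k v)
    rw [hkt, hkt]
    exact hcomm t ht1' ht2 v
  · rw [← det_ie, ← ht3]
    congr 1
    exact LinearMap.ext hkt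
  · have := Fintype.ofFinite {x : ι → F // Q x = 1}
    have := Fintype.ofFinite {v : ι → F // polarBilin Q v v = 2}
    rw [spinorSign_apply]
    have hP : ∀ v : ι → F, Q v = 1 ↔ polarBilin Q v v = 2 := by
      intro v
      rw [pol_self]
      constructor
      · intro h; rw [h, mul_one]
      · intro h
        exact mul_left_cancel₀ h2 (by rw [h, mul_one])
    let e : {x : ι → F // Q x = 1} ≃ {v : ι → F // polarBilin Q v v = 2} := Equiv.subtypeEquivRight hP
    rw [← Equiv.Perm.sign_permCongr e]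
    refine ht4 2 h2 _ fun v => ?_
    have h3 : (e.permCongr (quadricPerm (⇑Q) 1 k)) v = e (quadricPerm (⇑Q) 1 k (e.symm v)) := rfl
    rw [h3]
    change ie Q k (v : ι → F) = _
    rw [hkt]

end Odd

end Cfsg.Agent.H524.CS
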