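import Mathlib
import Cfsg.Agent.H524.CS.Omega
import Cfsg.Agent.H182.Classify
import Cfsg.Agent.S0287
import Cfsg.Agent.S0288

/-!
# S3677: the order of the isometry group of a quadratic space of even dimension (helper524)
-/

set_option autoImplicit false

namespace Cfsg.Agent.H524.CS

open Module QuadraticMap Cfsg.Agent.H951 Cfsg.Agent.H204 Cfsg.Agent.LieClassical.OrthFinite
  Cfsg.Agent.LieClassical.OrthForms Cfsg.Agent.LieClassical.OrthCore

variable {F : Type*} [Field F] [Finite F]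

omit [Finite F] in
theorem card_isom_congr (h2 : (2 : F) ≠ 0) {ι : Type} [Fintype ι] [DecidableEq ι] {W : Type*} [AddCommGroup W] [Module F W]
    {R : QuadraticForm F W} {Q : QuadraticForm F (ι → F)} (e : (ι → F) ≃ₗ[F] W) (he : ∀ u, R (e u) = Q u) :
    Nat.card {g : W ≃ₗ[F] W // ∀ u v, polarBilin R (g u) (g v) = polarBilin R u v} =
      Nat.card (Cfsg.isometryGroup F ⇑Q) := by
  have hpe : ∀ u v, polarBilin R (e u) (e v) = polarBilin Q u v := fun u v => by
    rw [polarBilin_apply_apply, polarBilin_apply_apply, polar, polar, ← map_add, he, he, he]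
  symm
  refine Nat.card_congr (Equiv.ofBijective (fun g => ⟨(e.symm.trans (ie Q g)).trans e, fun u v => ?_⟩) ⟨?_, ?_⟩)
  · show polarBilin R (e (ie Q g (e.symm u))) (e (ie Q g (e.symm v))) = _
    rw [hpe, ie_B, ← hpe, e.apply_symm_apply, e.apply_symm_apply]
  · intro g g' h
    apply isometryHom_injective Q
    apply LinearEquiv.ext
    intro v
    have h1 := congrArg (fun k : W ≃ₗ[F] W => k (e v)) (congrArg Subtype.val h)
    have h3 : e (ie Q g (e.symm (e v))) = e (ie Q g' (e.symm (e v))) := h1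
    rw [e.symm_apply_apply] at h3
    exact e.injective h3
  · rintro ⟨g, hg⟩
    obtain ⟨k, hk⟩ := exists_ie (Q := Q) h2 ((e.trans g).trans e.symm) (fun u v => by
      rw [← hpe, ← hpe]
      show polarBilin R (e (e.symm (g (e u)))) (e (e.symm (g (e v)))) = _
      rw [e.apply_symm_apply, e.apply_symm_apply, hg])
    refine ⟨k, Subtype.ext (LinearEquiv.ext fun v => ?_)⟩
    show e (ie Q k (e.symm v)) = g v
    rw [hk]
    show e (e.symm (g (e (e.symm v)))) = g v
    rw [e.apply_symm_apply, e.apply_symm_apply]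

/-- **the order of the isometry group in dimension `2 n`**: `2 q^(n(n-1)) A`, `p` does not divide `A` -/
theorem card_even (h2 : (2 : F) ≠ 0) {p f : ℕ} (hp : p.Prime) (hf : 1 ≤ f) (hF : Nat.card F = p ^ f) {n : ℕ} (hn : 1 ≤ n)
    {W : Type*} [AddCommGroup W] [Module F W] [FiniteDimensional F W] (hW : finrank F W = 2 * n)
    (R : QuadraticForm F W) (hR : Nondeg R) :
    ∃ A, ¬ p ∣ A ∧ Nat.card {g : W ≃ₗ[F] W // ∀ u v, polarBilin R (g u) (g v) = polarBilin R u v} =
      2 * ((p ^ f) ^ (n * (n - 1)) * A) := by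
  have := Fintype.ofFinite F
  have hF' : Fintype.card F = p ^ f := by rw [← Nat.card_eq_fintype_card, hF]
  have hpf : ∀ k : ℕ, 1 ≤ k → p ∣ (p ^ f) ^ k := fun k hk => by
    rw [← pow_mul]
    exact dvd_pow_self p (by positivity)
  have hpos : ∀ k : ℕ, 1 ≤ (p ^ f) ^ k := fun k => Nat.one_le_pow _ _ (pow_pos hp.pos _)
  have h1 : ∀ k : ℕ, 1 ≤ k → ¬ p ∣ (p ^ f) ^ k - 1 := fun k hk h => by
    have h3 : p ∣ (p ^ f) ^ k - ((p ^ f) ^ k - 1) := Nat.dvd_sub (hpf k hk) h
    rw [Nat.sub_sub_self (hpos k)] at h3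
    exact hp.one_lt.ne' (Nat.dvd_one.1 h3)
  have h1' : ∀ k : ℕ, 1 ≤ k → ¬ p ∣ (p ^ f) ^ k + 1 := fun k hk h => by
    have h3 := (Nat.dvd_add_right (hpf k hk)).1 h
    exact hp.one_lt.ne' (Nat.dvd_one.1 h3)
  have h3 : ¬ p ∣ ∏ i ∈ Finset.range (n - 1), ((p ^ f) ^ (2 * (i + 1)) - 1) := by
    rw [hp.prime.dvd_finsetProd_iff]
    rintro ⟨i, -, hi⟩
    exact h1 _ (by omega) hi
  rcases Cfsg.Agent.H182.Sign.classify' R hR n hW with ⟨e, he⟩ | ⟨k, hk, a, b, hab, e, he⟩
  · refine ⟨((p ^ f) ^ n - 1) * ∏ i ∈ Finset.range (n - 1), ((p ^ f) ^ (2 * (i + 1)) - 1), ?_, ?_⟩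
    · intro h
      rcases hp.dvd_mul.1 h with h | h
      · exact h1 n hn h
      · exact h3 h
    · rw [card_isom_congr h2 e he, coe_plusForm, Cfsg.Agent.S0287.result hF' n hn]
      ring
  · refine ⟨((p ^ f) ^ n + 1) * ∏ i ∈ Finset.range (n - 1), ((p ^ f) ^ (2 * (i + 1)) - 1), ?_, ?_⟩
    · intro h
      rcases hp.dvd_mul.1 h with h | h
      · exact h1' n hn h
      · exact h3 h
    · have hk' : k = n - 1 := by omega
      subst hk'
      rw [card_isom_congr h2 e he, coe_minusForm, Cfsg.Agent.S0288.result hF' n hn a b hab]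
      ring

end Cfsg.Agent.H524.CS
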